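import Groth.Agent.Lib.KSix19.AmpSmooth
import Groth.Agent.Lib.KSix19.TorDimAffine
import Mathlib.AlgebraicGeometry.Morphisms.Smooth

/-!
# Tor amplitude relative to a smooth base
-/

set_option autoImplicit false
set_option backward.isDefEq.respectTransparency false
set_option linter.style.haveILetI false

universe u

open CategoryTheory CategoryTheory.Limits AlgebraicGeometry HomologicalComplex

attribute [local instance] HasDerivedCategory.standard

namespace GrothLib.AmpSmBase6

open GrothLib.KSix19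

theorem exists_relDim {A B : Type u} [CommRing A] [CommRing B] {f : A →+* B} (hf : f.IsStandardSmooth) :
    ∃ n, f.IsStandardSmoothOfRelativeDimension n := by
  letI := f.toAlgebra
  haveI : Algebra.IsStandardSmooth A B := hf
  obtain ⟨ι, σ, _, _, ⟨P⟩⟩ := Algebra.IsStandardSmooth.out (R := A) (S := B)
  exact ⟨P.dimension, ⟨ι, σ, inferInstance, inferInstance, P, rfl⟩⟩

theorem exists_amp_of_smooth {X B S : Scheme.{u}} (h : B ⟶ S) [Smooth h] (φ : X ⟶ B) (x : X)
    (F : CochainComplex X.Modules ℤ) {a b : ℤ} (hS : DerSch.HasTorAmplitudeAt (φ ≫ h) a b F x) :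
    ∃ a' b' : ℤ, DerSch.HasTorAmplitudeAt φ a' b' F x := by
  let y := φ x
  obtain ⟨V, hV, U, hU, hyU, e, hsm⟩ := Smooth.exists_isStandardSmooth h y
  obtain ⟨n, hn⟩ := exists_relDim hsm
  let K : DRing.Cx (B.presheaf.stalk y) := (DerSch.stalkCxOver φ x).obj F
  let ψ := (h.stalkMap y).hom
  obtain ⟨e₁⟩ := nonempty_stalkCxOver_comp φ h x F
  -- over the stalk of `S`
  have h1 : AmpOver ψ a b K :=
    amp_of_iso (e₁ ≪≫ (ModuleCat.restrictScalars ψ).mapDerivedCategoryFactors.app K) hS
  -- over the sections of `V`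
  let gV := (S.presheaf.germ V (h y) (e hyU)).hom
  let gU := (B.presheaf.germ U y hyU).hom
  let L : DRing.Cx (S.presheaf.stalk (h y)) := (DRing.restrictCx ψ).obj K
  have h2 : AmpOver gV (a - (0 : ℕ)) b L :=
    amp_of_iso ((ModuleCat.restrictScalars gV).mapDerivedCategoryFactors.app L)
      (amp_restrict gV 0 (by simpa using ampM_flat gV (flat_germ hV (e hyU))) h1)
  have h3 : AmpOver (ψ.comp gV) (a - (0 : ℕ)) b K := (amp_congr gV ψ K _ b).2 h2
  have h4 : AmpOver (gU.comp (h.appLE V U e).hom) (a - (0 : ℕ)) b K := by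
    rw [← show ψ.comp gV = gU.comp (h.appLE V U e).hom from stalkMap_comp_germ h e hyU]
    exact h3
  have h5 := amp_of_standardSmooth hn ((amp_congr (h.appLE V U e).hom gU K _ b).1 h4)
  letI := gU.toAlgebra
  haveI : IsLocalization.AtPrime (B.presheaf.stalk y) (hU.primeIdealOf ⟨y, hyU⟩).asIdeal :=
    hU.isLocalization_stalk ⟨y, hyU⟩
  exact ⟨_, _, amp_of_isLocalization (hU.primeIdealOf ⟨y, hyU⟩).asIdeal.primeCompl h5⟩

end GrothLib.AmpSmBase6
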